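import Cfsg.Agent.H548.FP.Sing

/-!
# S5717: the centralizer of a Singer element of `SL(W)`, `W` totally singular (helper548)
-/

set_option autoImplicit false
set_option linter.unusedSectionVars false

namespace Cfsg.Agent.H548.FP

open Module Matrix Polynomial Cfsg.Agent.H920.FP

variable {F V : Type*} [Field F] [Finite F] [AddCommGroup V] [Module F V] {f : Frm F V} {J : Type*} [DecidableEq J]
  [Fintype J] {e e' : J → V}

theorem mulVec_inj {A : Matrix J J F} (hA : A.det ≠ 0) {x : J → F} (h : A *ᵥ x = 0) : x = 0 :=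
  Matrix.eq_zero_of_mulVec_eq_zero hA h

theorem mulVec_surj {A : Matrix J J F} (hA : A.det ≠ 0) (x : J → F) : ∃ y, A *ᵥ y = x := by
  have hu : IsUnit A := (Matrix.isUnit_iff_isUnit_det A).2 (isUnit_iff_ne_zero.2 hA)
  obtain ⟨u, rfl⟩ := hu
  refine ⟨(↑u⁻¹ : Matrix J J F) *ᵥ x, ?_⟩
  rw [mulVec_mulVec, Units.mul_inv, one_mulVec]

/-- an element acting as `A` on `e`, as `B` on `e'`, trivially on the complement -/
structure Diag (h : Hyp f e e') (A B : Matrix J J F) (P : F[X]) (z : V ≃ₗ[F] V) : Prop where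
  map : ∀ x y w, z (h.phi (x, y, w)) = h.phi (A *ᵥ x, B *ᵥ y, w)
  pA : aeval A P = 0
  pB : (aeval B P).det ≠ 0
  A1 : (A - 1).det ≠ 0
  B1 : (B - 1).det ≠ 0

variable {h : Hyp f e e'} {A B : Matrix J J F} {P : F[X]} {z : V ≃ₗ[F] V}

theorem intertwine_zero (hA : aeval A P = 0) (hB : (aeval B P).det ≠ 0) {T : (J → F) →ₗ[F] (J → F)}
    (hT : ∀ x, T (A *ᵥ x) = B *ᵥ T x) : T = 0 := by
  have h1 : LinearMap.toMatrix' T * A = B * LinearMap.toMatrix' T := by
    apply Matrix.ext_iff_mulVec.2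
    intro x
    rw [← mulVec_mulVec, ← mulVec_mulVec, LinearMap.toMatrix'_mulVec, LinearMap.toMatrix'_mulVec, hT]
  have h2 := aeval_comm _ _ _ h1 P
  rw [hA, mul_zero] at h2
  apply LinearMap.ext
  intro x
  refine mulVec_inj hB ?_
  rw [← LinearMap.toMatrix'_mulVec, mulVec_mulVec, ← h2, zero_mulVec]

theorem intertwine_zero' (hA : aeval A P = 0) (hB : (aeval B P).det ≠ 0) {T : (J → F) →ₗ[F] (J → F)}
    (hT : ∀ x, T (B *ᵥ x) = A *ᵥ T x) : T = 0 := by
  have h1 : LinearMap.toMatrix' T * B = A * LinearMap.toMatrix' T := by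
    apply Matrix.ext_iff_mulVec.2
    intro x
    rw [← mulVec_mulVec, ← mulVec_mulVec, LinearMap.toMatrix'_mulVec, LinearMap.toMatrix'_mulVec, hT]
  have h2 := aeval_comm _ _ _ h1 P
  rw [hA, zero_mul] at h2
  apply LinearMap.ext
  intro x
  obtain ⟨y, rfl⟩ := mulVec_surj hB x
  rw [← LinearMap.toMatrix'_mulVec, mulVec_mulVec, h2, zero_mulVec]
  rfl

theorem inv_zero {W : Type*} [AddCommGroup W] [Module F W] (hA : (A - 1).det ≠ 0) {T : (J → F) →ₗ[F] W}
    (hT : ∀ x, T (A *ᵥ x) = T x) : T = 0 := by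
  apply LinearMap.ext
  intro x
  obtain ⟨y, rfl⟩ := mulVec_surj hA x
  rw [sub_mulVec, one_mulVec, map_sub, hT, sub_self]
  rfl

theorem fix_zero (hA : (A - 1).det ≠ 0) {x : J → F} (hx : A *ᵥ x = x) : x = 0 := by
  refine mulVec_inj hA ?_
  rw [sub_mulVec, one_mulVec, hx, sub_self]

/-- the components of an element commuting with `z` -/
theorem Diag.left (d : Diag h A B P z) {g : V ≃ₗ[F] V} (hg : ∀ v, g (z v) = z (g v)) (x : J → F) :
    ∃ x', g (h.phi (x, 0, 0)) = h.phi (x', 0, 0) := by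
  let ι : (J → F) →ₗ[F] ((J → F) × (J → F) × f.perp (Sum.elim e e')) := LinearMap.inl F _ _
  let T : (J → F) →ₗ[F] ((J → F) × (J → F) × f.perp (Sum.elim e e')) :=
    (h.phi.symm : V →ₗ[F] _) ∘ₗ (g : V →ₗ[F] V) ∘ₗ (h.phi : _ →ₗ[F] V) ∘ₗ ι
  have hT : ∀ x, g (h.phi (x, 0, 0)) = h.phi (T x) := fun x => (h.phi.apply_symm_apply _).symm
  have key : ∀ x, T (A *ᵥ x) = (A *ᵥ (T x).1, B *ᵥ (T x).2.1, (T x).2.2) := by
    intro x
    apply h.phi.injective
    rw [← hT, ← d.map, ← Prod.mk.eta (p := (T x).2), Prod.mk.eta, ← hT, ← hg, d.map, mulVec_zero]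
  have h2 : (LinearMap.fst F (J → F) (f.perp (Sum.elim e e')) ∘ₗ LinearMap.snd F (J → F) _) ∘ₗ T = 0 := by
    refine intertwine_zero (A := A) (B := B) d.pA d.pB fun x => ?_
    show (T (A *ᵥ x)).2.1 = _
    rw [key]
    rfl
  have h3 : (LinearMap.snd F (J → F) (f.perp (Sum.elim e e')) ∘ₗ LinearMap.snd F (J → F) _) ∘ₗ T = 0 := by
    refine inv_zero (A := A) d.A1 fun x => ?_
    show (T (A *ᵥ x)).2.2 = _
    rw [key]
    rfl
  refine ⟨(T x).1, ?_⟩
  rw [hT]
  congr 1
  refine Prod.ext rfl (Prod.ext ?_ ?_)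
  · exact LinearMap.congr_fun h2 x
  · exact LinearMap.congr_fun h3 x

theorem Diag.mid (d : Diag h A B P z) {g : V ≃ₗ[F] V} (hg : ∀ v, g (z v) = z (g v)) (y : J → F) :
    ∃ y', g (h.phi (0, y, 0)) = h.phi (0, y', 0) := by
  let ι : (J → F) →ₗ[F] ((J → F) × (J → F) × f.perp (Sum.elim e e')) := LinearMap.inr F _ _ ∘ₗ LinearMap.inl F _ _
  let T : (J → F) →ₗ[F] ((J → F) × (J → F) × f.perp (Sum.elim e e')) :=
    (h.phi.symm : V →ₗ[F] _) ∘ₗ (g : V →ₗ[F] V) ∘ₗ (h.phi : _ →ₗ[F] V) ∘ₗ ι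
  have hT : ∀ x, g (h.phi (0, x, 0)) = h.phi (T x) := fun x => (h.phi.apply_symm_apply _).symm
  have key : ∀ x, T (B *ᵥ x) = (A *ᵥ (T x).1, B *ᵥ (T x).2.1, (T x).2.2) := by
    intro x
    apply h.phi.injective
    rw [← hT, ← d.map, ← Prod.mk.eta (p := (T x).2), Prod.mk.eta, ← hT, ← hg, d.map, mulVec_zero]
  have h2 : LinearMap.fst F (J → F) ((J → F) × f.perp (Sum.elim e e')) ∘ₗ T = 0 := by
    refine intertwine_zero' (A := A) (B := B) d.pA d.pB fun x => ?_
    show (T (B *ᵥ x)).1 = _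
    rw [key]
    rfl
  have h3 : (LinearMap.snd F (J → F) (f.perp (Sum.elim e e')) ∘ₗ LinearMap.snd F (J → F) _) ∘ₗ T = 0 := by
    refine inv_zero (A := B) d.B1 fun x => ?_
    show (T (B *ᵥ x)).2.2 = _
    rw [key]
    rfl
  refine ⟨(T y).2.1, ?_⟩
  rw [hT]
  congr 1
  refine Prod.ext ?_ (Prod.ext rfl ?_)
  · exact LinearMap.congr_fun h2 y
  · exact LinearMap.congr_fun h3 y

theorem Diag.right (d : Diag h A B P z) {g : V ≃ₗ[F] V} (hg : ∀ v, g (z v) = z (g v))
    (w : f.perp (Sum.elim e e')) : ∃ w', g (h.phi (0, 0, w)) = h.phi (0, 0, w') := by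
  obtain ⟨⟨x, y, w'⟩, hT⟩ := h.phi.surjective (g (h.phi (0, 0, w)))
  have h1 : z (h.phi (0, 0, w)) = h.phi (0, 0, w) := by rw [d.map, mulVec_zero, mulVec_zero]
  have h2 := hg (h.phi (0, 0, w))
  rw [h1, ← hT, d.map] at h2
  have h3 := h.phi.injective h2
  rw [Prod.mk.injEq, Prod.mk.injEq] at h3
  refine ⟨w', ?_⟩
  rw [← hT, fix_zero d.A1 h3.1.symm, fix_zero d.B1 h3.2.1.symm]

theorem Hyp.B_phi (h : Hyp f e e') (x y : J → F) :
    f.B (h.phi (x, 0, 0)) (h.phi (0, y, 0)) = ∑ i, x i * f.σ (y i) := by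
  rw [h.phi_eq, h.phi_eq, h.B_hmap]
  simp

/-- the count -/
theorem Diag.card_le [Module.Finite F V] (d : Diag h A B P z) [Nonempty J]
    (hirr : ∀ W : Submodule F (J → F), (∀ x ∈ W, A *ᵥ x ∈ W) → W ≠ ⊥ → W = ⊤) :
    Nat.card {g : V ≃ₗ[F] V // f.Isom g ∧ ∀ v, g (z v) = z (g v)} ≤
      Nat.card F ^ Fintype.card J * Nat.card F ^ (finrank F (f.perp (Sum.elim e e'))) ^ 2 := by
  classical
  have hV : Finite V := Module.finite_of_finite F
  have hV0 : Module.Finite F (f.perp (Sum.elim e e')) := inferInstance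
  have hfin : Finite (f.perp (Sum.elim e e')) := inferInstance
  have hfin2 : Finite ((f.perp (Sum.elim e e')) →ₗ[F] (f.perp (Sum.elim e e'))) := Module.finite_of_finite F
  let x0 : J → F := fun _ => 1
  have hx0 : x0 ≠ 0 := by
    intro h0
    have := congrFun h0 (Classical.arbitrary J)
    exact one_ne_zero this
  let ι3 : f.perp (Sum.elim e e') →ₗ[F] ((J → F) × (J → F) × f.perp (Sum.elim e e')) :=
    LinearMap.inr F _ _ ∘ₗ LinearMap.inr F _ _
  let Φ : {g : V ≃ₗ[F] V // f.Isom g ∧ ∀ v, g (z v) = z (g v)} →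
      (J → F) × ((f.perp (Sum.elim e e')) →ₗ[F] (f.perp (Sum.elim e e'))) := fun g =>
    ((h.phi.symm (g.1 (h.phi (x0, 0, 0)))).1,
      (LinearMap.snd F (J → F) (f.perp (Sum.elim e e')) ∘ₗ LinearMap.snd F (J → F) _) ∘ₗ
        (h.phi.symm : V →ₗ[F] _) ∘ₗ (g.1 : V →ₗ[F] V) ∘ₗ (h.phi : _ →ₗ[F] V) ∘ₗ ι3)
  have hinj : Function.Injective Φ := by
    rintro ⟨g, hg, hgz⟩ ⟨g', hg', hgz'⟩ heq
    rw [Subtype.mk.injEq]
    have e1 := congrArg Prod.fst heq
    have e2 := congrArg Prod.snd heq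
    -- the complement
    have hw : ∀ w, g (h.phi (0, 0, w)) = g' (h.phi (0, 0, w)) := by
      intro w
      obtain ⟨w1, h1⟩ := d.right hgz w
      obtain ⟨w2, h2⟩ := d.right hgz' w
      have h3 := LinearMap.congr_fun e2 w
      change (h.phi.symm (g (h.phi (0, 0, w)))).2.2 = (h.phi.symm (g' (h.phi (0, 0, w)))).2.2 at h3
      rw [h1, h2, h.phi.symm_apply_apply, h.phi.symm_apply_apply] at h3
      change w1 = w2 at h3
      rw [h1, h2, h3]
    -- the first part
    let W : Submodule F (J → F) :=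
      { carrier := {x | g (h.phi (x, 0, 0)) = g' (h.phi (x, 0, 0))}
        zero_mem' := by
          show g (h.phi 0) = g' (h.phi 0)
          simp
        add_mem' := by
          intro x y hx hy
          change g (h.phi (x, 0, 0)) = g' (h.phi (x, 0, 0)) at hx
          change g (h.phi (y, 0, 0)) = g' (h.phi (y, 0, 0)) at hy
          show g (h.phi (x + y, 0, 0)) = g' (h.phi (x + y, 0, 0))
          have h1 : ((x + y, 0, 0) : (J → F) × (J → F) × f.perp (Sum.elim e e')) = (x, 0, 0) + (y, 0, 0) := by simp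
          rw [h1, map_add, map_add, map_add, hx, hy]
        smul_mem' := by
          intro c x hx
          change g (h.phi (x, 0, 0)) = g' (h.phi (x, 0, 0)) at hx
          show g (h.phi (c • x, 0, 0)) = g' (h.phi (c • x, 0, 0))
          have h1 : ((c • x, 0, 0) : (J → F) × (J → F) × f.perp (Sum.elim e e')) = c • (x, 0, 0) := by simp
          rw [h1, map_smul, map_smul, map_smul, hx] }
    have hWtop : W = ⊤ := by
      refine hirr W ?_ ?_
      · intro x hx
        change g (h.phi (x, 0, 0)) = g' (h.phi (x, 0, 0)) at hx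
        show g (h.phi (A *ᵥ x, 0, 0)) = g' (h.phi (A *ᵥ x, 0, 0))
        have h1 : h.phi (A *ᵥ x, 0, 0) = z (h.phi (x, 0, 0)) := by rw [d.map, mulVec_zero]
        rw [h1, hgz, hgz', hx]
      · intro hbot
        have h1 : x0 ∈ W := by
          obtain ⟨x1, h1⟩ := d.left hgz x0
          obtain ⟨x2, h2⟩ := d.left hgz' x0
          change (h.phi.symm (g (h.phi (x0, 0, 0)))).1 = (h.phi.symm (g' (h.phi (x0, 0, 0)))).1 at e1
          rw [h1, h2, h.phi.symm_apply_apply, h.phi.symm_apply_apply] at e1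
          show g (h.phi (x0, 0, 0)) = g' (h.phi (x0, 0, 0))
          rw [h1, h2]
          change x1 = x2 at e1
          rw [e1]
        rw [hbot, Submodule.mem_bot] at h1
        exact hx0 h1
    have hx : ∀ x, g (h.phi (x, 0, 0)) = g' (h.phi (x, 0, 0)) := by
      intro x
      have : x ∈ W := by rw [hWtop]; trivial
      exact this
    -- the second part
    have hgs : ∀ v, g.symm (z v) = z (g.symm v) := by
      intro v
      apply g.injective
      rw [g.apply_symm_apply, hgz, g.apply_symm_apply]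
    have hy : ∀ y, g (h.phi (0, y, 0)) = g' (h.phi (0, y, 0)) := by
      intro y
      obtain ⟨y1, h1⟩ := d.mid hgz y
      obtain ⟨y2, h2⟩ := d.mid hgz' y
      rw [h1, h2]
      congr 1
      refine Prod.ext rfl (Prod.ext ?_ rfl)
      have key : ∀ x : J → F, ∑ i, x i * f.σ (y1 i) = ∑ i, x i * f.σ (y2 i) := by
        intro x
        obtain ⟨x', h3⟩ := d.left hgs x
        have h4 : g (h.phi (x', 0, 0)) = h.phi (x, 0, 0) := by rw [← h3, g.apply_symm_apply]
        have h5 : g' (h.phi (x', 0, 0)) = h.phi (x, 0, 0) := by rw [← hx, h4]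
        rw [← Hyp.B_phi h, ← Hyp.B_phi h, ← h1, ← h2, ← h4, hg.B, h4, ← h5, hg'.B]
      funext i
      have h3 := key (Pi.single i 1)
      simp only [Pi.single_apply, ite_mul, one_mul, zero_mul, Finset.sum_ite_eq', Finset.mem_univ, if_true] at h3
      exact f.σ.injective h3
    apply LinearEquiv.ext
    intro v
    obtain ⟨⟨x, y, w⟩, rfl⟩ := h.phi.surjective v
    have h1 : ((x, y, w) : (J → F) × (J → F) × f.perp (Sum.elim e e')) = (x, 0, 0) + ((0, y, 0) + (0, 0, w)) := by simp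
    rw [h1, map_add, map_add, map_add, map_add, map_add, map_add, hx, hy, hw]
  have h1 := Nat.card_le_card_of_injective Φ hinj
  refine h1.trans (le_of_eq ?_)
  rw [Nat.card_prod, Nat.card_fun, Nat.card_eq_fintype_card (α := J), Module.natCard_eq_pow_finrank (K := F)
    (V := (f.perp (Sum.elim e e')) →ₗ[F] (f.perp (Sum.elim e e'))), Module.finrank_linearMap, pow_two]

end Cfsg.Agent.H548.FP
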