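import Cfsg.Agent.H514.DP.SLRes
import Cfsg.Agent.H122.OrthBasePlus

/-!
# The smallest degree of a quasisimple group containing `SL_w(q)` (helper548, S5717)
-/

set_option autoImplicit false
set_option linter.unusedSectionVars false

namespace Cfsg.Agent.H548.FP

open Module Matrix

/-- reindexing `SL` -/
def slRe {ι κ : Type*} [Fintype ι] [DecidableEq ι] [Fintype κ] [DecidableEq κ] (F : Type*) [Field F] (e : ι ≃ κ) :
    SpecialLinearGroup ι F →* SpecialLinearGroup κ F where
  toFun A := ⟨reindexAlgEquiv F F e (A : Matrix ι ι F), by rw [det_reindexAlgEquiv, Matrix.SpecialLinearGroup.det_coe]⟩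
  map_one' := Subtype.ext (map_one (reindexAlgEquiv F F e))
  map_mul' A B := Subtype.ext (map_mul (reindexAlgEquiv F F e) (A : Matrix ι ι F) (B : Matrix ι ι F))

theorem slRe_surj {ι κ : Type*} [Fintype ι] [DecidableEq ι] [Fintype κ] [DecidableEq κ] (F : Type*) [Field F]
    (e : ι ≃ κ) : Function.Surjective (slRe F e) := by
  intro B
  refine ⟨slRe F e.symm B, Subtype.ext ?_⟩
  show reindexAlgEquiv F F e (reindexAlgEquiv F F e.symm (B : Matrix κ κ F)) = _
  ext i j
  simp

theorem minDeg_of_SL {M : Type*} [Group M] {J : Type*} [Fintype J] [DecidableEq J] {F : Type*} [Field F]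
    [Fintype F] (hw : 3 ≤ Fintype.card J) (hnorm : ∀ N : Subgroup M, N.Normal → N = ⊤ ∨ N ≤ Subgroup.center M)
    (ψ : SpecialLinearGroup J F →* M) (hψ : ∃ a, ψ a ∉ Subgroup.center M) :
    H514.DP.MinDeg M (Fintype.card F ^ (Fintype.card J - 1) - 1) := by
  intro k ρ hρ hk
  have h1 : H122.MinDeg (SpecialLinearGroup (Fin (Fintype.card J)) F) (Nat.card F ^ (Fintype.card J - 1) - 1) :=
    H122.minDeg_of_fin (H514.DP.perfect_SL hw) (H514.DP.minDeg_SL hw)
  obtain ⟨g0, hg0⟩ := H514.DP.exists_ne_one ρ hρ hk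
  have hker : (MonoidHom.ker (ρ : M →* Module.End ℂ (Fin k → ℂ))) ≤ Subgroup.center M := by
    rcases hnorm (MonoidHom.ker (ρ : M →* Module.End ℂ (Fin k → ℂ))) inferInstance with h | h
    · exfalso
      apply hg0
      have h2 : g0 ∈ MonoidHom.ker (ρ : M →* Module.End ℂ (Fin k → ℂ)) := by rw [h]; trivial
      exact MonoidHom.mem_ker.1 h2
    · exact h
  obtain ⟨a, ha⟩ := hψ
  obtain ⟨a', rfl⟩ := slRe_surj F (Fintype.equivFin J).symm a
  have h2 := h1 (Fin k → ℂ) ((ρ : M →* Module.End ℂ (Fin k → ℂ)).comp (ψ.comp (slRe F (Fintype.equivFin J).symm)))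
    ⟨a', fun h0 => ha (hker (MonoidHom.mem_ker.2 h0))⟩
  rwa [finrank_fintype_fun_eq_card, Fintype.card_fin, Nat.card_eq_fintype_card] at h2

end Cfsg.Agent.H548.FP
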