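import Cfsg.Agent.H920.FP.Theta
import Cfsg.Agent.H514.DP.SLRes

/-!
# S5717: Singer elements are not conjugate to their duals (helper548)
-/

set_option autoImplicit false

namespace Cfsg.Agent.H548.FP

open Module Matrix Polynomial

/-- endomorphisms of finite fields are powers of the Frobenius map -/
theorem frob_hom {K : Type*} [Field K] [Finite K] {p : ℕ} [Fact p.Prime] [CharP K p] (θ : K →+* K) :
    ∃ j : ℕ, ∀ x : K, θ x = x ^ p ^ j := by
  let _ : Algebra (ZMod p) K := ZMod.algebra K p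
  have hcomm : θ.comp (algebraMap (ZMod p) K) = algebraMap (ZMod p) K := Subsingleton.elim _ _
  let τ' : K →ₐ[ZMod p] K := { θ with commutes' := fun r => RingHom.congr_fun hcomm r }
  have : Fintype K := Fintype.ofFinite K
  obtain ⟨j, hj⟩ := (FiniteField.bijective_frobeniusAlgHom_pow (ZMod p) K).2 τ'
  refine ⟨j, fun x => ?_⟩
  have h1 : ∀ (n : ℕ) (y : K), ((FiniteField.frobeniusAlgHom (ZMod p) K) ^ n) y = y ^ p ^ n := by
    intro n y
    induction n generalizing y with
    | zero => simp
    | succ n ih =>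
      rw [pow_succ, AlgHom.mul_apply, ih]
      simp [pow_succ, mul_comm, ← pow_mul]
  have h2 : τ' x = θ x := rfl
  rw [← h2, ← hj]
  exact h1 _ x

/-- the order of a Singer element of norm one -/
theorem sing_gt {q w : ℕ} (hq : 2 ≤ q) (hw : 3 ≤ w) : q ^ (w - 1) < (q ^ w - 1) / (q - 1) := by
  rw [Nat.lt_iff_add_one_le, Nat.le_div_iff_mul_le (by omega)]
  obtain ⟨v, rfl⟩ : ∃ v, w = v + 1 := ⟨w - 1, by omega⟩
  rw [Nat.add_sub_cancel]
  have h1 : q ≤ q ^ v := Nat.le_self_pow (by omega) q
  obtain ⟨r, rfl⟩ : ∃ r, q = r + 1 := ⟨q - 1, by omega⟩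
  rw [Nat.add_sub_cancel]
  have h2 : (r + 1) ^ (v + 1) = (r + 1) ^ v * r + (r + 1) ^ v := by ring
  have h3 : ((r + 1) ^ v + 1) * r = (r + 1) ^ v * r + r := by ring
  omega

section

variable {F K : Type*} [Field F] [Finite F] [Field K] [Finite K]

/-- no field endomorphism inverts a Singer element of norm one -/
theorem no_inv {w : ℕ} (hK : Nat.card K = Nat.card F ^ w) (hw : 3 ≤ w) {a : K}
    (ha : orderOf a = (Nat.card F ^ w - 1) / (Nat.card F - 1)) (θ : K →+* K) : θ a ≠ a⁻¹ := by
  intro h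
  obtain ⟨p, hp⟩ := CharP.exists K
  have : Fact p.Prime := ⟨(CharP.char_is_prime_or_zero K p).resolve_right (CharP.char_ne_zero_of_finite K p)⟩
  have := Fintype.ofFinite K
  obtain ⟨n, hpp, hn⟩ := FiniteField.card K p
  have hq : 2 ≤ Nat.card F := Finite.one_lt_card
  obtain ⟨j, hj⟩ := frob_hom (p := p) θ
  have hN := sing_gt hq hw
  rw [← ha] at hN
  have ha0 : a ≠ 0 := by
    rintro rfl
    have : orderOf (0 : K) = 0 := by
      rw [orderOf_eq_zero_iff']
      intro m hm
      rw [zero_pow hm.ne']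
      exact zero_ne_one
    omega
  have hcK : ∀ x : K, x ^ p ^ (n : ℕ) = x := by
    intro x
    rw [← hn]
    exact FiniteField.pow_card x
  -- reduce `j`
  have hred : ∀ i : ℕ, ∀ x : K, x ^ p ^ ((n : ℕ) * i) = x := by
    intro i
    induction i with
    | zero => intro x; simp
    | succ i ih =>
      intro x
      rw [Nat.mul_succ, pow_add, pow_mul, ih, hcK]
  set k := j % (n : ℕ) with hk
  have hkn : k < n := Nat.mod_lt _ n.pos
  have h1 : a ^ p ^ k = a⁻¹ := by
    rw [← h, hj, ← Nat.div_add_mod j n, pow_add, pow_mul, hred, ← hk]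
  have h2 : a ^ (p ^ k + 1) = 1 := by rw [pow_succ, h1, inv_mul_cancel₀ ha0]
  have h3 : a ^ (p ^ ((n : ℕ) - k) + 1) = 1 := by
    have h4 : (a ^ (p ^ k + 1)) ^ p ^ ((n : ℕ) - k) = 1 := by rw [h2, one_pow]
    rw [← pow_mul, add_mul, one_mul, ← pow_add, Nat.add_sub_cancel' hkn.le, pow_add, hcK] at h4
    rw [pow_succ, mul_comm]
    exact h4
  -- the smaller exponent
  have hp2 : 2 ≤ p := hpp.two_le
  have key : ∀ m : ℕ, 2 * m ≤ (n : ℕ) → a ^ (p ^ m + 1) = 1 → False := by
    intro m hm hm2
    have h5 : orderOf a ≤ p ^ m + 1 := orderOf_le_of_pow_eq_one (Nat.succ_pos _) hm2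
    have h6 : Nat.card F ^ (w - 1) ≤ p ^ m := by omega
    have h7 : (Nat.card F ^ (w - 1)) ^ 2 ≤ Nat.card F ^ w := by
      calc (Nat.card F ^ (w - 1)) ^ 2 ≤ (p ^ m) ^ 2 := Nat.pow_le_pow_left h6 2
        _ = p ^ (2 * m) := by rw [← pow_mul, mul_comm]
        _ ≤ p ^ (n : ℕ) := Nat.pow_le_pow_right (by omega) hm
        _ = Nat.card F ^ w := by rw [← hK, Nat.card_eq_fintype_card, hn]
    rw [← pow_mul] at h7
    have h8 := (Nat.pow_le_pow_iff_right (by omega : 1 < Nat.card F)).1 h7
    omega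
  rcases Nat.le_total (2 * k) n with h4 | h4
  · exact key k h4 h2
  · exact key _ (by omega) h3

variable [Algebra F K] {J : Type*} [Fintype J] [DecidableEq J]

omit [Finite F] [Finite K] in
/-- polynomials of the dual matrix -/
theorem aeval_dual (σ τ : F →+* F) (hτ : ∀ c, τ (σ c) = c) (X : Matrix J J F) (P : F[X]) :
    aeval ((Xᵀ).map τ) P = ((aeval X (P.map σ))ᵀ).map τ := by
  have hpow : ∀ n : ℕ, ((Xᵀ).map τ) ^ n = ((X ^ n)ᵀ).map τ := by
    intro n
    rw [transpose_pow]
    induction n with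
    | zero =>
      rw [pow_zero, pow_zero]
      ext i j
      by_cases hij : i = j
      · subst hij
        simp
      · have hji : j ≠ i := fun h => hij h.symm
        simp [hij, hji]
    | succ n ih =>
      rw [pow_succ, ih, pow_succ]
      exact (Matrix.map_mul (f := τ)).symm
  induction P using Polynomial.induction_on' with
  | add P Q hP hQ =>
    rw [map_add, Polynomial.map_add, map_add, transpose_add, hP, hQ]
    ext i j
    simp
  | monomial n c =>
    rw [aeval_monomial, map_monomial, aeval_monomial, hpow, ← Algebra.smul_def, ← Algebra.smul_def]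
    ext i j
    simp [hτ]

omit [Finite F] [Finite K] in
theorem aeval_comm (T X Y : Matrix J J F) (h : T * X = Y * T) (P : F[X]) : T * aeval X P = aeval Y P * T := by
  have hpow : ∀ n : ℕ, T * X ^ n = Y ^ n * T := by
    intro n
    induction n with
    | zero => simp
    | succ n ih => rw [pow_succ, ← mul_assoc, ih, mul_assoc, h, ← mul_assoc, ← pow_succ]
  induction P using Polynomial.induction_on' with
  | add P Q hP hQ => rw [map_add, map_add, mul_add, add_mul, hP, hQ]
  | monomial n c =>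
    rw [aeval_monomial, aeval_monomial, ← Algebra.smul_def, ← Algebra.smul_def, mul_smul_comm, smul_mul_assoc, hpow]

omit [Finite F] [Finite K] in
theorem exists_lift {L : Type*} [Field L] (i : F →+* L) {a : K} (hint : IsIntegral F a)
    (hgen : Algebra.adjoin F {a} = ⊤) {y : L} (h : (minpoly F a).eval₂ i y = 0) : ∃ θ : K →+* L, θ a = y := by
  let _ : Algebra F L := i.toAlgebra
  let pb : PowerBasis F K := PowerBasis.ofAdjoinEqTop hint hgen
  have hpb : pb.gen = a := PowerBasis.ofAdjoinEqTop_gen hint hgen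
  have h2 : aeval y (minpoly F pb.gen) = 0 := by
    rw [hpb]
    exact h
  refine ⟨(pb.lift y h2 : K →ₐ[F] L), ?_⟩
  have h3 := pb.lift_gen y h2
  rw [hpb] at h3
  exact h3

/-- the minimal polynomial of a Singer element is invertible at the dual matrix -/
theorem isUnit_dual (b : Basis J F K) (hw : 3 ≤ Fintype.card J) (σ τ : F →+* F) (hτ : ∀ c, τ (σ c) = c) {a : K}
    (ha : orderOf a = (Nat.card F ^ Fintype.card J - 1) / (Nat.card F - 1)) (hgen : Algebra.adjoin F {a} = ⊤) :
    (aeval (((Algebra.leftMulMatrix b a⁻¹)ᵀ).map τ) (minpoly F a)).det ≠ 0 := by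
  have hfin : Module.Finite F K := Module.Finite.of_basis b
  have hK : Nat.card K = Nat.card F ^ Fintype.card J := by
    rw [Module.natCard_eq_pow_finrank (K := F), Module.finrank_eq_card_basis b]
  have hint : IsIntegral F a := Algebra.IsIntegral.isIntegral a
  have h1 : aeval a⁻¹ ((minpoly F a).map σ) ≠ 0 := by
    intro h
    rw [aeval_def, eval₂_map] at h
    obtain ⟨θ, hθ⟩ := exists_lift ((algebraMap F K).comp σ) hint hgen h
    exact no_inv hK hw ha θ hθ
  rw [aeval_dual σ τ hτ, ← RingHom.mapMatrix_apply, ← RingHom.map_det, det_transpose]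
  rw [Polynomial.aeval_algHom_apply, ← Algebra.norm_eq_matrix_det]
  intro h
  apply h1
  have h2 : Algebra.norm F (aeval a⁻¹ ((minpoly F a).map σ)) = 0 := (map_eq_zero τ).1 h
  exact Algebra.norm_eq_zero_iff.1 h2

end

end Cfsg.Agent.H548.FP
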