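import Cfsg.Agent.H548.FP.Cent
import Cfsg.Agent.H514.DP.OrdElt

/-!
# S5717: existence of the Singer data in `SL(W)`, `W` totally singular (helper548)
-/

set_option autoImplicit false
set_option linter.unusedSectionVars false

namespace Cfsg.Agent.H548.FP

open Module Matrix Polynomial Cfsg.Agent.H920.FP

variable {F V : Type*} [Field F] [Finite F] [AddCommGroup V] [Module F V] {f : Frm F V} {J : Type*} [DecidableEq J]
  [Fintype J] {e e' : J → V}

theorem det_lmm {K : Type*} [Field K] [Algebra F K] (b : Basis J F K) {c : K} (hc : c ≠ 0) :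
    (Algebra.leftMulMatrix b c).det ≠ 0 := by
  have : Module.Finite F K := Module.Finite.of_basis b
  rw [← Algebra.norm_eq_matrix_det]
  exact Algebra.norm_ne_zero_iff.2 hc

theorem irr_lmm {K : Type*} [Field K] [Algebra F K] (b : Basis J F K) {a : K} (ha : Algebra.adjoin F {a} = ⊤)
    (W : Submodule F (J → F)) (hW : ∀ x ∈ W, Algebra.leftMulMatrix b a *ᵥ x ∈ W) (h0 : W ≠ ⊥) : W = ⊤ := by
  have hmul : ∀ c k : K, Algebra.leftMulMatrix b c *ᵥ (b.equivFun k) = b.equivFun (c * k) := by
    intro c k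
    exact Algebra.leftMulMatrix_mulVec_repr b c k
  have key : ∀ c : K, ∀ k : K, b.equivFun k ∈ W → b.equivFun (c * k) ∈ W := by
    intro c
    have hc : c ∈ Algebra.adjoin F {a} := by rw [ha]; trivial
    induction hc using Algebra.adjoin_induction with
    | mem x hx =>
      intro k hk
      rw [Set.mem_singleton_iff.1 hx, ← hmul]
      exact hW _ hk
    | algebraMap r =>
      intro k hk
      rw [← Algebra.smul_def, map_smul]
      exact W.smul_mem _ hk
    | add x y _ _ hx hy =>
      intro k hk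
      rw [add_mul, map_add]
      exact W.add_mem (hx k hk) (hy k hk)
    | mul x y _ _ hx hy =>
      intro k hk
      rw [mul_assoc]
      exact hx _ (hy k hk)
  obtain ⟨x, hx, hx0⟩ := (Submodule.ne_bot_iff W).1 h0
  rw [eq_top_iff]
  intro y _
  obtain ⟨k, rfl⟩ := b.equivFun.surjective x
  obtain ⟨k', rfl⟩ := b.equivFun.surjective y
  have hk0 : k ≠ 0 := by
    rintro rfl
    exact hx0 (map_zero _)
  have h1 := key (k' * k⁻¹) k hx
  rwa [mul_assoc, inv_mul_cancel₀ hk0, mul_one] at h1

theorem exists_diag (h : Hyp f e e') (hw : 3 ≤ Fintype.card J) :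
    ∃ (A : SpecialLinearGroup J F) (P : F[X]),
      Diag h (A : Matrix J J F) (dualHom f.tau A : Matrix J J F) P (h.theta A) ∧
      ∀ W : Submodule F (J → F), (∀ x ∈ W, (A : Matrix J J F) *ᵥ x ∈ W) → W ≠ ⊥ → W = ⊤ := by
  obtain ⟨K, _, _, ⟨b⟩⟩ := H514.DP.exists_ext (F := F) (n := Fintype.card J) (by omega)
  obtain ⟨a, ha1, ha2, ha3⟩ := H514.DP.exists_singer_norm_one b (by omega)
  let b' : Basis J F K := b.reindex (Fintype.equivFin J).symm
  let A : SpecialLinearGroup J F := ⟨Algebra.leftMulMatrix b' a, by rw [← Algebra.norm_eq_matrix_det, ha1]⟩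
  have hA : (A : Matrix J J F) = Algebra.leftMulMatrix b' a := rfl
  have ha0 : a ≠ 0 := by
    rintro rfl
    have : Module.Finite F K := Module.Finite.of_basis b
    rw [Algebra.norm_zero] at ha1
    exact zero_ne_one ha1
  have hq : 1 < Nat.card F := Finite.one_lt_card
  have hKf : Finite K := H514.DP.finite_ext b
  have hne : a ≠ 1 := by
    rintro rfl
    rw [orderOf_one] at ha2
    have h2 : Nat.card F - 1 < Nat.card F ^ Fintype.card J - 1 := by
      have h3 : Nat.card F ^ 1 < Nat.card F ^ Fintype.card J := Nat.pow_lt_pow_right hq (by omega)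
      rw [pow_one] at h3
      omega
    have h4 : (Nat.card F - 1) * 2 ≤ Nat.card F ^ Fintype.card J - 1 := by
      have h3 : Nat.card F ^ 2 ≤ Nat.card F ^ Fintype.card J := Nat.pow_le_pow_right (by omega) (by omega)
      have h5 : Nat.card F * 2 ≤ Nat.card F ^ 2 := by
        rw [pow_two]; exact Nat.mul_le_mul_left _ hq
      omega
    have h5 : 2 ≤ (Nat.card F ^ Fintype.card J - 1) / (Nat.card F - 1) :=
      (Nat.le_div_iff_mul_le (by omega)).2 (by rw [mul_comm]; exact h4)
    omega
  have hAi : ((A⁻¹ : SpecialLinearGroup J F) : Matrix J J F) = Algebra.leftMulMatrix b' a⁻¹ := by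
    have h1 : (A : Matrix J J F) * Algebra.leftMulMatrix b' a⁻¹ = 1 := by
      rw [hA, ← map_mul, mul_inv_cancel₀ ha0, map_one]
    have h2 : ((A⁻¹ : SpecialLinearGroup J F) : Matrix J J F) * (A : Matrix J J F) = 1 :=
      congrArg Subtype.val (inv_mul_cancel A)
    calc ((A⁻¹ : SpecialLinearGroup J F) : Matrix J J F)
        = ((A⁻¹ : SpecialLinearGroup J F) : Matrix J J F) * ((A : Matrix J J F) * Algebra.leftMulMatrix b' a⁻¹) := by
          rw [h1, mul_one]
      _ = Algebra.leftMulMatrix b' a⁻¹ := by rw [← mul_assoc, h2, one_mul]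
  have hi : a⁻¹ - 1 ≠ 0 := by
    intro h0
    rw [sub_eq_zero, inv_eq_one] at h0
    exact hne h0
  refine ⟨A, minpoly F a, ⟨h.theta_phi A, ?_, ?_, ?_, ?_⟩, ?_⟩
  · rw [hA, Polynomial.aeval_algHom_apply, minpoly.aeval, map_zero]
  · rw [dualHom_coe, hAi]
    exact isUnit_dual b' hw f.σ f.tau f.tau_sigma ha2 ha3
  · have h1 : (A : Matrix J J F) - 1 = Algebra.leftMulMatrix b' (a - 1) := by rw [map_sub, map_one, hA]
    rw [h1]
    exact det_lmm b' (sub_ne_zero.2 hne)
  · have h1 : (dualHom f.tau A : Matrix J J F) - 1 = ((Algebra.leftMulMatrix b' (a⁻¹ - 1))ᵀ).map f.tau := by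
      rw [dualHom_coe, hAi, map_sub, map_one, transpose_sub, transpose_one, Matrix.map_sub _ (map_sub f.tau),
        Matrix.map_one _ (map_zero f.tau) (map_one f.tau)]
    rw [h1, ← RingHom.mapMatrix_apply, ← RingHom.map_det, det_transpose]
    intro h2
    exact det_lmm b' hi (f.tau.injective (h2.trans (map_zero f.tau).symm))
  · intro W hW h0
    exact irr_lmm b' ha3 W hW h0

end Cfsg.Agent.H548.FP
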