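import Cfsg.Agent.H548.FP.Sing2
import Cfsg.Agent.H548.FP.MinTop
import Cfsg.Agent.H920.FP.Strong
import Cfsg.Agent.H917.FP.Chr

/-!
# S5717: the top values for the form types (helper548)
-/

set_option autoImplicit false
set_option linter.unusedSectionVars false

namespace Cfsg.Agent.H548.FP

open Module Matrix Polynomial Cfsg.Agent.H920.FP Cfsg.Agent.H917.FP

section

variable {M : Type} [Group M] {ι : Type} [Fintype ι] [DecidableEq ι] {F : Type} [Field F] [Fintype F]
  {m : M → Matrix ι ι F}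

theorem MRow.finite (R : MRow M m) : Finite M := by
  have h1 : Finite ((ι → F) ≃ₗ[F] (ι → F)) :=
    Finite.of_injective (fun g : (ι → F) ≃ₗ[F] (ι → F) => (g : (ι → F) → (ι → F))) fun g h hgh =>
      LinearEquiv.ext fun v => congrFun hgh v
  exact Finite.of_injective R.ρ R.inj

theorem psi_inj (R : MRow M m) {κ : Type} [Fintype κ] [DecidableEq κ] {e e' : κ → (ι → F)} (h : Hyp R.f e e')
    {ψ : SpecialLinearGroup κ F →* M} (hψ : ∀ g, R.ρ (ψ g) = h.theta g) : Function.Injective ψ := by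
  intro a b hab
  apply h.theta_inj
  rw [← hψ, ← hψ, hab]

theorem psi_noncentral (R : MRow M m) {κ : Type} [Fintype κ] [DecidableEq κ] (hκ : 3 ≤ Fintype.card κ)
    {e e' : κ → (ι → F)} (h : Hyp R.f e e') {ψ : SpecialLinearGroup κ F →* M} (hψ : ∀ g, R.ρ (ψ g) = h.theta g) :
    ∃ a, ψ a ∉ Subgroup.center M := by
  by_contra hcon
  push_neg at hcon
  have hperf : commutator (Matrix.SpecialLinearGroup κ F) = ⊤ := LieClassical.SLGen.commutator_eq_top hκ
  have hcomm : ∀ a b : SpecialLinearGroup κ F, a * b = b * a := by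
    intro a b
    apply psi_inj R h hψ
    rw [map_mul, map_mul]
    exact (Subgroup.mem_center_iff.1 (hcon b) (ψ a))
  have h1 : commutator (SpecialLinearGroup κ F) = ⊥ := by
    rw [commutator_def, eq_bot_iff, Subgroup.commutator_le]
    intro a _ b _
    rw [Subgroup.mem_bot, commutatorElement_def, hcomm a b]
    group
  rw [h1] at hperf
  obtain ⟨A, P, hd, -⟩ := exists_diag h hκ
  have h2 : A = 1 := by
    have : A ∈ (⊤ : Subgroup (SpecialLinearGroup κ F)) := trivial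
    rwa [← hperf, Subgroup.mem_bot] at this
  have : Nonempty κ := Fintype.card_pos_iff.1 (by omega)
  refine hd.A1 ?_
  rw [h2]
  show ((1 : Matrix κ κ F) - 1).det = 0
  rw [sub_self]
  exact det_zero

theorem perfect_of (R : MRow M m) {κ : Type} [Fintype κ] [DecidableEq κ] (hκ : 3 ≤ Fintype.card κ)
    {e e' : κ → (ι → F)} (h : Hyp R.f e e') {ψ : SpecialLinearGroup κ F →* M} (hψ : ∀ g, R.ρ (ψ g) = h.theta g)
    (hnorm : ∀ N : Subgroup M, N.Normal → N = ⊤ ∨ N ≤ Subgroup.center M) : commutator M = ⊤ := by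
  rcases hnorm (commutator M) inferInstance with h1 | h1
  · exact h1
  · exfalso
    obtain ⟨a, ha⟩ := psi_noncentral R hκ h hψ
    have hperf : commutator (Matrix.SpecialLinearGroup κ F) = ⊤ := LieClassical.SLGen.commutator_eq_top hκ
    apply ha
    apply h1
    have h2 : a ∈ commutator (Matrix.SpecialLinearGroup κ F) := by rw [hperf]; trivial
    have h3 : (commutator (Matrix.SpecialLinearGroup κ F)).map ψ ≤ commutator M := by
      rw [commutator_def, commutator_def, Subgroup.map_commutator]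
      exact Subgroup.commutator_mono le_top le_top
    exact h3 ⟨a, h2, rfl⟩

theorem card_cent (R : MRow M m) {κ : Type} [Fintype κ] [DecidableEq κ] {e e' : κ → (ι → F)} (h : Hyp R.f e e')
    {A : SpecialLinearGroup κ F} {P : F[X]} (hκ : 3 ≤ Fintype.card κ) (hι : Fintype.card ι ≤ 2 * Fintype.card κ + 2)
    (hd : Diag h (A : Matrix κ κ F) (dualHom R.f.tau A : Matrix κ κ F) P (h.theta A))
    (hirr : ∀ W : Submodule F (κ → F), (∀ x ∈ W, (A : Matrix κ κ F) *ᵥ x ∈ W) → W ≠ ⊥ → W = ⊤)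
    {ψ : SpecialLinearGroup κ F →* M} (hψ : ∀ g, R.ρ (ψ g) = h.theta g) :
    Nat.card (Subgroup.centralizer ({ψ A} : Set M)) ≤ Fintype.card F ^ (Fintype.card κ + 4) := by
  have : Nonempty κ := Fintype.card_pos_iff.1 (by omega)
  have hF : 1 ≤ Nat.card F := Nat.card_pos
  have hfin2 : Finite ((ι → F) ≃ₗ[F] (ι → F)) :=
    Finite.of_injective (fun g : (ι → F) ≃ₗ[F] (ι → F) => (g : (ι → F) → (ι → F))) fun g h hgh =>
      LinearEquiv.ext fun v => congrFun hgh v
  have hperp : finrank F (R.f.perp (Sum.elim e e')) ≤ 2 := by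
    have h1 := LinearEquiv.finrank_eq h.phi
    rw [finrank_prod, finrank_prod, finrank_fintype_fun_eq_card, finrank_fintype_fun_eq_card] at h1
    omega
  have h1 := hd.card_le hirr
  let Φ : Subgroup.centralizer ({ψ A} : Set M) →
      {g : (ι → F) ≃ₗ[F] (ι → F) // R.f.Isom g ∧ ∀ v, g (h.theta A v) = h.theta A (g v)} := fun x =>
    ⟨R.ρ x.1, R.iso x.1, fun v => by
      have h2 := Subgroup.mem_centralizer_iff.1 x.2 (ψ A) rfl
      have h3 := congrArg R.ρ h2
      rw [map_mul, map_mul, hψ] at h3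
      exact (LinearEquiv.congr_fun h3 v).symm⟩
  have hΦ : Function.Injective Φ := by
    intro x y hxy
    exact Subtype.ext (R.inj (congrArg Subtype.val hxy))
  have h2 := Nat.card_le_card_of_injective Φ hΦ
  refine h2.trans (h1.trans ?_)
  rw [← Nat.card_eq_fintype_card (α := F), ← Nat.pow_add]
  apply Nat.pow_le_pow_right hF
  have h3 : finrank F (R.f.perp (Sum.elim e e')) ^ 2 ≤ 2 ^ 2 := Nat.pow_le_pow_left hperp 2
  omega

end

theorem num {q : ℝ} (hq : 2 ≤ q) {w : ℕ} (hw : 8 ≤ w) {f : ℝ} (hf0 : 0 ≤ f) {d : ℕ} (hd : (d : ℝ) + 1 = q ^ (w - 1))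
    {c : ℝ} (hc : c ≤ q ^ (w + 4)) (hf : f ≤ 1 / ((d : ℝ) + 1) + √c / d) : f ^ 8 * q ^ w ≤ 6561 := by
  have hq0 : 0 < q := by linarith
  have hQ : (2 : ℝ) ≤ q ^ (w - 1) := by
    calc (2 : ℝ) ≤ q := hq
      _ = q ^ 1 := (pow_one q).symm
      _ ≤ q ^ (w - 1) := pow_le_pow_right₀ (by linarith) (by omega)
  set Q : ℝ := q ^ (w - 1) with hQd
  set S : ℝ := √(q ^ (w + 4)) with hS
  have hS2 : S ^ 2 = q ^ (w + 4) := Real.sq_sqrt (by positivity)
  have hS1 : 1 ≤ S := by
    rw [hS]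
    exact Real.one_le_sqrt.2 (one_le_pow₀ (by linarith))
  have hsc : √c ≤ S := Real.sqrt_le_sqrt hc
  have hd1 : Q / 2 ≤ (d : ℝ) := by linarith
  have hf3 : f ≤ 3 * (S / Q) := by
    have h1 : 1 / ((d : ℝ) + 1) ≤ S / Q := by
      rw [hd]
      gcongr
    have h2 : √c / d ≤ 2 * (S / Q) := by
      calc √c / d ≤ S / (Q / 2) := by gcongr
        _ = 2 * (S / Q) := by field_simp
    linarith
  have h8 : f ^ 8 ≤ (3 * (S / Q)) ^ 8 := pow_le_pow_left₀ hf0 hf3 8
  have h9 : (3 * (S / Q)) ^ 8 = 6561 * ((S ^ 2) ^ 4 / Q ^ 8) := by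
    field_simp
    norm_num
  have h10 : (S ^ 2) ^ 4 / Q ^ 8 * q ^ w ≤ 1 := by
    rw [hS2, hQd, ← pow_mul, ← pow_mul, div_mul_eq_mul_div, ← pow_add, div_le_one (by positivity)]
    exact pow_le_pow_right₀ (by linarith) (by omega)
  calc f ^ 8 * q ^ w ≤ (6561 * ((S ^ 2) ^ 4 / Q ^ 8)) * q ^ w := by
        rw [← h9]
        exact mul_le_mul_of_nonneg_right h8 (by positivity)
    _ = 6561 * ((S ^ 2) ^ 4 / Q ^ 8 * q ^ w) := by ring
    _ ≤ 6561 * 1 := by gcongr
    _ = 6561 := by norm_num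

/-- **The top value.** -/
theorem top_val {M : Type} [Group M] {ι : Type} [Fintype ι] [DecidableEq ι] {F : Type} [Field F] [Fintype F]
    {m : M → Matrix ι ι F} (R : MRow M m)
    (hnorm : ∀ N : Subgroup M, N.Normal → ¬ N ≤ Subgroup.center M → N = ⊤) : TopVal 6561 R := by
  intro Ω _ _ hΩ κ _ _ e e' h ψ hψ h1 h2 h8
  have hκ : 3 ≤ Fintype.card κ := by omega
  have hnorm' : ∀ N : Subgroup M, N.Normal → N = ⊤ ∨ N ≤ Subgroup.center M := by
    intro N hN
    by_cases hc : N ≤ Subgroup.center M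
    · exact Or.inr hc
    · exact Or.inl (hnorm N hN hc)
  obtain ⟨A, P, hd, hirr⟩ := exists_diag h hκ
  have hM : Finite M := MRow.finite R
  have hC := card_cent R h hκ h2 hd hirr hψ
  have hmin := minDeg_of_SL hκ hnorm' ψ (psi_noncentral R hκ h hψ)
  have hperf := perfect_of R hκ h hψ hnorm'
  have hF2 : 2 ≤ Fintype.card F := Fintype.one_lt_card
  have hQ : 2 ≤ Fintype.card F ^ (Fintype.card κ - 1) := by
    calc 2 ≤ Fintype.card F := hF2
      _ = Fintype.card F ^ 1 := (pow_one _).symm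
      _ ≤ _ := Nat.pow_le_pow_right (by omega) (by omega)
  have hd0 : 0 < Fintype.card F ^ (Fintype.card κ - 1) - 1 := by omega
  have hf := fpr_le_char (Ω := Ω) hperf hd0 hmin (ψ A)
  have huniv : fpr Ω (Set.univ : Set M) = 0 := by
    have h3 : IsEmpty {w : Ω // ∀ a ∈ (Set.univ : Set M), a • w = w} :=
      ⟨fun w => by
        obtain ⟨g, hg⟩ := hΩ w.1
        exact hg (w.2 g trivial)⟩
    rw [fpr, Nat.card_of_isEmpty, Nat.cast_zero, zero_div]
  rw [huniv, zero_add] at hf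
  have hle : fpr Ω (Set.range ψ) ≤ fpr Ω {ψ A} := by
    apply fpr_anti
    rintro _ rfl
    exact ⟨A, rfl⟩
  have hdR : ((Fintype.card F ^ (Fintype.card κ - 1) - 1 : ℕ) : ℝ) + 1 = (Fintype.card F : ℝ) ^ (Fintype.card κ - 1) := by
    rw [Nat.cast_sub (by omega)]
    push_cast
    ring
  refine num (q := (Fintype.card F : ℝ)) (by exact_mod_cast hF2) h8 (fpr_nonneg Ω _) hdR
    (c := (Nat.card (Subgroup.centralizer ({ψ A} : Set M)) : ℝ)) ?_ (hle.trans hf)
  exact_mod_cast hC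

end Cfsg.Agent.H548.FP
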