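import Cfsg.Agent.H548.FP.Top
import Cfsg.Agent.H920.FP.Asm
import Cfsg.Agent.H847.BSF.Facts

/-!
# S5717: the five top values `TopSp`, `TopSU`, `TopOOdd`, `TopOPlus`, `TopOMinus` (helper548)
-/

set_option autoImplicit false

namespace Cfsg.Agent.H548.FP

open Cfsg.Agent.H920.FP

theorem nor_of {M : Type} [Group M] (h : ∀ N : Subgroup M, N.Normal → N ≤ Subgroup.center M ∨ N = ⊤) :
    ∀ N : Subgroup M, N.Normal → ¬ N ≤ Subgroup.center M → N = ⊤ :=
  fun N hN hc => (h N hN).resolve_left hc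

theorem top_sp : TopSp :=
  ⟨6561, fun F _ _ m hm R => top_val R (nor_of (H847.BSF.facts_sp F m (by omega) (by omega)).norm)⟩

theorem top_su : TopSU :=
  ⟨6561, fun F _ _ n q hq hn R => top_val R (nor_of (H847.BSF.facts_su F n q hq (by omega) (by omega)).norm)⟩

theorem top_oodd : TopOOdd :=
  ⟨6561, fun F _ _ m hF hm R => top_val R (nor_of (H847.BSF.facts_oodd F m (by omega) hF).norm)⟩

theorem top_oplus : TopOPlus :=
  ⟨6561, fun F _ _ m hm R => top_val R (nor_of (H847.BSF.facts_oplus F m (by omega)).norm)⟩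

theorem top_ominus : TopOMinus :=
  ⟨6561, fun F _ _ m a b hab hm R => top_val R (nor_of (H847.BSF.facts_ominus F m (by omega) a b hab).norm)⟩

end Cfsg.Agent.H548.FP
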